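import Cfsg.Agent.H756.PU.Stmts

/-!
# S5258: coordinates of `UG K` (helper294)

Elementary facts about the field and the commutators of `UG K` modulo `Z`, `Z2`, `Y1`, `V`.
-/

set_option autoImplicit false

namespace Cfsg.Agent.H294.PU

open Cfsg Cfsg.FusionSystem Cfsg.Agent.H756.PU

universe u

section field

variable {K : Type u} [Field K] [StarRing K] {p n : ℕ}

theorem two_le_q (h : HypK K p n) : 2 ≤ p ^ n := by
  calc 2 ≤ p := h.pp.two_le
    _ = p ^ 1 := (pow_one p).symm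
    _ ≤ p ^ n := Nat.pow_le_pow_right h.pp.pos h.hn

/-- the involution is not trivial -/
theorem exists_star_ne (h : HypK K p n) : ∃ b : K, star b ≠ b := by
  haveI := h.fin
  haveI : Fintype K := Fintype.ofFinite K
  by_contra hcon
  push Not at hcon
  have hq := two_le_q h
  set q := p ^ n with hqdef
  obtain ⟨ζ, hζ⟩ := IsCyclic.exists_generator (α := Kˣ)
  have ho : orderOf ζ = q ^ 2 - 1 := by
    rw [orderOf_eq_card_of_forall_mem_zpowers hζ, Nat.card_units, h.card]
  have h1 : (ζ : K) ^ q = ζ := by rw [← h.star_eq]; exact hcon _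
  have h2 : ζ ^ (q - 1) = 1 := by
    ext
    rw [Units.val_pow_eq_pow_val, Units.val_one]
    have h3 : (ζ : K) ^ (q - 1) * ζ = 1 * ζ := by
      rw [← pow_succ, Nat.sub_add_cancel (by omega), h1, one_mul]
    exact mul_right_cancel₀ (Units.ne_zero ζ) h3
  have h4 : q ^ 2 - 1 ∣ q - 1 := by rw [← ho]; exact orderOf_dvd_of_pow_eq_one h2
  have h5 : q ^ 2 - 1 ≤ q - 1 := Nat.le_of_dvd (by omega) h4
  have h6 : q * 2 ≤ q ^ 2 := by rw [pow_two]; exact Nat.mul_le_mul_left q hq
  omega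

/-- an element of nonzero trace -/
theorem exists_tr_ne (h : HypK K p n) : ∃ θ : K, θ + star θ ≠ 0 := by
  by_cases h2 : (2 : K) = 0
  · obtain ⟨b, hb⟩ := exists_star_ne h
    refine ⟨b, fun hz => hb ?_⟩
    linear_combination hz - b * h2
  · refine ⟨1, ?_⟩
    rw [star_one, one_add_one_eq_two]
    exact h2

/-- Hilbert 90 for the trace -/
theorem exists_sub (h : HypK K p n) {a : K} (ha : a + star a = 0) : ∃ x : K, star x - x = a := by
  obtain ⟨θ, hθ⟩ := exists_tr_ne h
  have hs : star (θ + star θ) = θ + star θ := by rw [star_add, star_star, add_comm]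
  refine ⟨- (a * θ) / (θ + star θ), ?_⟩
  have h1 : star (- (a * θ) / (θ + star θ)) = - (star a * star θ) / (θ + star θ) := by
    rw [star_div₀, hs, star_neg, star_mul']
  rw [h1, ← sub_div, div_eq_iff hθ]
  linear_combination (-star θ) * ha

/-- every norm is the opposite of a trace -/
theorem exists_norm (h : HypK K p n) (u : K) : ∃ a : K, a + star a + u * star u = 0 := by
  obtain ⟨θ, hθ⟩ := exists_tr_ne h
  have hs : star (θ + star θ) = θ + star θ := by rw [star_add, star_star, add_comm]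
  refine ⟨- (u * star u * θ) / (θ + star θ), ?_⟩
  have h1 : star (- (u * star u * θ) / (θ + star θ)) = - (u * star u * star θ) / (θ + star θ) := by
    rw [star_div₀, hs, star_neg, star_mul', star_mul', star_star]
    ring
  rw [h1, ← add_div]
  field_simp
  ring

/-- a nonzero element of trace zero -/
theorem exists_tr_zero (h : HypK K p n) : ∃ c : K, c ≠ 0 ∧ c + star c = 0 := by
  obtain ⟨b, hb⟩ := exists_star_ne h
  refine ⟨star b - b, sub_ne_zero.2 hb, ?_⟩
  rw [star_sub, star_star]; ring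

end field

section coord

variable {K : Type u} [Field K] [StarRing K]

theorem commZ {g y : UG K} : g * y * g⁻¹ * y⁻¹ ∈ ZS K ↔
    (g * y).r = (y * g).r ∧ (g * y).u1 = (y * g).u1 ∧ (g * y).u2 = (y * g).u2 ∧ (g * y).b = (y * g).b ∧
      (g * y).c = (y * g).c := by
  constructor
  · intro hz
    obtain ⟨h1, h2, h3, h4, h5⟩ := hz
    set z := g * y * g⁻¹ * y⁻¹ with hzd
    have he : g * y = z * (y * g) := by rw [hzd]; group
    rw [he]
    simp [UG.mul_b, UG.mul_u1, h1, h2, h3, h4, h5]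
  · rintro ⟨h1, h2, h3, h4, h5⟩
    set z := g * y * g⁻¹ * y⁻¹ with hzd
    have he : g * y = z * (y * g) := by rw [hzd]; group
    rw [he] at h1 h2 h3 h4 h5
    set x := y * g
    have k1 : z.r = 0 := by rw [UG.mul_r] at h1; simpa using h1
    have k3 : z.u2 = 0 := by rw [UG.mul_u2] at h3; simpa using h3
    have k2 : z.u1 = 0 := by rw [UG.mul_u1, k1] at h2; simpa using h2
    have k4 : z.b = 0 := by rw [UG.mul_b, k1, k2] at h4; simpa using h4
    have k5 : z.c = 0 := by rw [UG.mul_c, k3] at h5; simpa using h5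
    exact ⟨k1, k2, k3, k4, k5⟩

theorem commV {g y : UG K} : g * y * g⁻¹ * y⁻¹ ∈ VV K ↔
    (g * y).r = (y * g).r ∧ (g * y).u1 = (y * g).u1 ∧ (g * y).u2 = (y * g).u2 := by
  constructor
  · intro hz
    obtain ⟨h1, h2, h3⟩ := hz
    set z := g * y * g⁻¹ * y⁻¹ with hzd
    have he : g * y = z * (y * g) := by rw [hzd]; group
    rw [he]
    simp [UG.mul_u1, h1, h2, h3]
  · rintro ⟨h1, h2, h3⟩
    set z := g * y * g⁻¹ * y⁻¹ with hzd
    have he : g * y = z * (y * g) := by rw [hzd]; group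
    rw [he] at h1 h2 h3
    set x := y * g
    have k1 : z.r = 0 := by rw [UG.mul_r] at h1; simpa using h1
    have k3 : z.u2 = 0 := by rw [UG.mul_u2] at h3; simpa using h3
    have k2 : z.u1 = 0 := by rw [UG.mul_u1, k1] at h2; simpa using h2
    exact ⟨k1, k2, k3⟩

theorem commZ2 {g y : UG K} : g * y * g⁻¹ * y⁻¹ ∈ Z2 K ↔
    (g * y).r = (y * g).r ∧ (g * y).u1 = (y * g).u1 ∧ (g * y).u2 = (y * g).u2 ∧ (g * y).c = (y * g).c := by
  constructor
  · intro hz
    obtain ⟨h1, h2, h3, h5⟩ := hz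
    set z := g * y * g⁻¹ * y⁻¹ with hzd
    have he : g * y = z * (y * g) := by rw [hzd]; group
    rw [he]
    simp [UG.mul_u1, h1, h2, h3, h5]
  · rintro ⟨h1, h2, h3, h5⟩
    set z := g * y * g⁻¹ * y⁻¹ with hzd
    have he : g * y = z * (y * g) := by rw [hzd]; group
    rw [he] at h1 h2 h3 h5
    set x := y * g
    have k1 : z.r = 0 := by rw [UG.mul_r] at h1; simpa using h1
    have k3 : z.u2 = 0 := by rw [UG.mul_u2] at h3; simpa using h3
    have k2 : z.u1 = 0 := by rw [UG.mul_u1, k1] at h2; simpa using h2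
    have k5 : z.c = 0 := by rw [UG.mul_c, k3] at h5; simpa using h5
    exact ⟨k1, k2, k3, k5⟩

theorem mem_Y1 {g : UG K} : g ∈ Y1 K ↔ g.u2 = 0 ∧ g.c = 0 ∧ g.r = 0 := by
  constructor
  · rintro ⟨⟨h1, h2⟩, h3⟩; exact ⟨h1, h2, h3⟩
  · rintro ⟨h1, h2, h3⟩; exact ⟨⟨h1, h2⟩, h3⟩

theorem commY1 {g y : UG K} (h1 : (g * y).r = (y * g).r) (h3 : (g * y).u2 = (y * g).u2)
    (h5 : (g * y).c = (y * g).c) : g * y * g⁻¹ * y⁻¹ ∈ Y1 K := by
  set z := g * y * g⁻¹ * y⁻¹ with hzd
  have he : g * y = z * (y * g) := by rw [hzd]; group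
  rw [he] at h1 h3 h5
  set x := y * g
  have k1 : z.r = 0 := by rw [UG.mul_r] at h1; simpa using h1
  have k3 : z.u2 = 0 := by rw [UG.mul_u2] at h3; simpa using h3
  have k5 : z.c = 0 := by rw [UG.mul_c, k3] at h5; simpa using h5
  exact mem_Y1.2 ⟨k3, k5, k1⟩

theorem commYY {g y : UG K} (h1 : (g * y).r = (y * g).r) (h3 : (g * y).u2 = (y * g).u2) :
    g * y * g⁻¹ * y⁻¹ ∈ YY K := by
  set z := g * y * g⁻¹ * y⁻¹ with hzd
  have he : g * y = z * (y * g) := by rw [hzd]; group
  rw [he] at h1 h3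
  set x := y * g
  have k1 : z.r = 0 := by rw [UG.mul_r] at h1; simpa using h1
  have k3 : z.u2 = 0 := by rw [UG.mul_u2] at h3; simpa using h3
  exact ⟨k1, k3⟩

/-- commutators modulo `Z`: the equations -/
theorem commZ_iff {g y : UG K} : g * y * g⁻¹ * y⁻¹ ∈ ZS K ↔
    g.r * y.u2 = y.r * g.u2 ∧ g.r * y.c - g.u1 * star y.u2 = y.r * g.c - y.u1 * star g.u2 ∧
      g.u2 * star y.u2 = y.u2 * star g.u2 := by
  rw [commZ]
  simp only [UG.mul_r, UG.mul_u1, UG.mul_u2, UG.mul_b, UG.mul_c]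
  constructor
  · rintro ⟨-, h2, -, h4, h5⟩
    exact ⟨by linear_combination h2, by linear_combination h4, by linear_combination -h5⟩
  · rintro ⟨h2, h4, h5⟩
    exact ⟨by ring, by linear_combination h2, by ring, by linear_combination h4, by linear_combination -h5⟩

theorem commV_iff {g y : UG K} : g * y * g⁻¹ * y⁻¹ ∈ VV K ↔ g.r * y.u2 = y.r * g.u2 := by
  rw [commV]
  simp only [UG.mul_r, UG.mul_u1, UG.mul_u2]
  constructor
  · rintro ⟨-, h2, -⟩
    linear_combination h2
  · intro h2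
    exact ⟨by ring, by linear_combination h2, by ring⟩

/-! ### elements -/

/-- the element with only coordinate `b` -/
def eb (b : K) : UG K := ⟨0, 0, 0, 0, b, 0, by simp, by simp⟩
/-- the element with only coordinate `r` -/
def er (r : K) : UG K := ⟨r, 0, 0, 0, 0, 0, by simp, by simp⟩
/-- the element with only coordinates `u1`, `a` -/
def eu1 (u a : K) (h : a + star a + u * star u = 0) : UG K := ⟨0, u, 0, a, 0, 0, h, by simp⟩
/-- the element with only coordinates `u2`, `c` -/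
def eu2 (u c : K) (h : c + star c + u * star u = 0) : UG K := ⟨0, 0, u, 0, 0, c, by simp, h⟩

/-- commuting with `Z2` -/
theorem comm_eb {x : UG K} (h : ∀ b, x * eb b = eb b * x) (hK : ∃ b : K, star b ≠ b) : x.r = 0 := by
  have h1 : ∀ b : K, - (x.r * star b) + star x.r * b = 0 := fun b => by
    have := congrArg UG.a (h b)
    simp only [UG.mul_a, eb, UG.d] at this
    simp only [star_zero, mul_zero, zero_mul, sub_zero, add_zero, zero_add] at this
    linear_combination this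
  obtain ⟨b, hb⟩ := hK
  have h2 := h1 1
  rw [star_one] at h2
  have h3 := h1 b
  have h4 : x.r * (b - star b) = 0 := by linear_combination h3 - b * h2
  rcases mul_eq_zero.1 h4 with h5 | h5
  · exact h5
  · exact absurd (sub_eq_zero.1 h5).symm hb

theorem Z2_comm_of_r {x z : UG K} (hx : x.r = 0) (hz : z ∈ Z2 K) : x * z = z * x := by
  obtain ⟨h1, h2, h3, h4⟩ := hz
  ext
  · simp [h1, hx]
  · simp [h1, h2, h3, hx]
  · simp [h3, add_comm]
  · simp [UG.mul_a, h1, h2, h3, hx, add_comm]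
  · simp [UG.mul_b, h1, h2, h3, h4, hx, add_comm]
  · simp [h3, h4]

/-- `Q2` is the centralizer of `Z2` -/
theorem mem_Q2_iff (hK : ∃ b : K, star b ≠ b) {x : UG K} : x ∈ Q2 K ↔ ∀ z ∈ Z2 K, x * z = z * x := by
  refine ⟨fun h z hz => Z2_comm_of_r h hz, fun h => ?_⟩
  exact comm_eb (fun b => h _ ⟨rfl, rfl, rfl, rfl⟩) hK

theorem V_comm {x v : UG K} (hv : v ∈ VV K) (hx : x ∈ Q2 K) : v * x = x * v := by
  obtain ⟨h1, h2, h3⟩ := hv
  have hx' : x.r = 0 := hx
  ext
  · simp [h1, hx']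
  · simp [h1, h2, h3, hx']
  · simp [h3]
  · simp [UG.mul_a, h1, h2, h3, hx', add_comm]
  · simp [UG.mul_b, h1, h2, h3, hx', add_comm]
  · simp [h3, add_comm]

theorem Z_comm {x v : UG K} (hv : v ∈ ZS K) : v * x = x * v := by
  obtain ⟨h1, h2, h3, h4, h5⟩ := hv
  ext
  · simp [h1]
  · simp [h1, h2, h3]
  · simp [h3]
  · simp [UG.mul_a, UG.d, h1, h2, h3, h4, h5, add_comm]
  · simp [UG.mul_b, h1, h2, h3, h4, h5]
  · simp [h3, h5]

end coord

end Cfsg.Agent.H294.PU
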