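import Cfsg.Agent.H756.PU.Stmts

/-!
# S5258: the generic TI argument (helper294)

A Sylow subgroup `Aut_G(Q)` of `Γ ≤ Aut(Q)` is normalized by every `γ ∈ Γ` preserving a chain
`Q ≥ M2 ≥ M1 ≥ V` whose factors are centralized by `G`, `V = Q' ≤ Z(Q)`.
-/

set_option autoImplicit false

namespace Cfsg.Agent.H294.PU

open Cfsg Cfsg.FusionSystem Cfsg.Agent.H756.PU

universe u

section Gen

variable {Q : Type u} [Group Q]

/-- iterating an automorphism acting trivially, modulo a central subgroup, on `x⁻¹ β(x)` -/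
theorem step_pow {V N1 : Subgroup Q} (hV : ∀ v ∈ V, ∀ x : Q, v * x = x * v) (β : MulAut Q)
    (hβV : ∀ v ∈ V, β v ∈ V) (hN1 : ∀ x ∈ N1, x⁻¹ * β x ∈ V) (x : Q) (hx : x⁻¹ * β x ∈ N1) (j : ℕ) :
    ∃ v ∈ V, (β ^ j) x = x * (x⁻¹ * β x) ^ j * v := by
  induction j with
  | zero => exact ⟨1, V.one_mem, by simp⟩
  | succ j ih =>
    obtain ⟨v, hv, he⟩ := ih
    set n := x⁻¹ * β x with hn
    have h1 : n⁻¹ * β n ∈ V := hN1 n hx
    set v' := n⁻¹ * β n with hv'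
    have h2 : β n = n * v' := by rw [hv']; group
    have h3 : β x = x * n := by rw [hn]; group
    have hc : Commute n v' := (hV v' h1 n).symm
    refine ⟨v' ^ j * β v, V.mul_mem (V.pow_mem h1 j) (hβV v hv), ?_⟩
    rw [pow_succ', MulAut.mul_apply, he, map_mul, map_mul, map_pow, h2, h3, hc.mul_pow, pow_succ']
    group

theorem step_triv {V N1 : Subgroup Q} (hV : ∀ v ∈ V, ∀ x : Q, v * x = x * v) (β : MulAut Q)
    (hβV : ∀ v ∈ V, β v ∈ V) (hN1 : ∀ x ∈ N1, x⁻¹ * β x ∈ V) {N : ℕ} (hN : ∀ x : Q, x ^ N = 1)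
    (x : Q) (hx : x⁻¹ * β x ∈ N1) : x⁻¹ * (β ^ N) x ∈ V := by
  obtain ⟨v, hv, he⟩ := step_pow hV β hβV hN1 x hx N
  rw [he, hN]
  simpa using hv

/-- the conditions on `β` -/
structure Ch (V M1 M2 : Subgroup Q) (β : MulAut Q) : Prop where
  iV : ∀ x, x ∈ V ↔ β x ∈ V
  i1 : ∀ x, x ∈ M1 ↔ β x ∈ M1
  i2 : ∀ x, x ∈ M2 ↔ β x ∈ M2
  t0 : ∀ x ∈ M1, x⁻¹ * β x ∈ V
  t1 : ∀ x ∈ M2, x⁻¹ * β x ∈ M1
  t2 : ∀ x, x⁻¹ * β x ∈ M2

/-- the group of automorphisms stabilizing the chain -/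
def ChG (V M1 M2 : Subgroup Q) : Subgroup (MulAut Q) where
  carrier := {β | Ch V M1 M2 β}
  one_mem' := by
    refine ⟨fun x => Iff.rfl, fun x => Iff.rfl, fun x => Iff.rfl, fun x _ => ?_, fun x _ => ?_, fun x => ?_⟩
    · simpa using V.one_mem
    · simpa using M1.one_mem
    · simpa using M2.one_mem
  mul_mem' := by
    rintro α β ha hb
    have key : ∀ x, x⁻¹ * (α * β) x = (x⁻¹ * β x) * ((β x)⁻¹ * α (β x)) := fun x => by
      rw [MulAut.mul_apply]; group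
    refine ⟨fun x => (hb.iV x).trans (ha.iV _), fun x => (hb.i1 x).trans (ha.i1 _),
      fun x => (hb.i2 x).trans (ha.i2 _), fun x hx => ?_, fun x hx => ?_, fun x => ?_⟩
    · rw [key]; exact V.mul_mem (hb.t0 x hx) (ha.t0 _ ((hb.i1 x).1 hx))
    · rw [key]; exact M1.mul_mem (hb.t1 x hx) (ha.t1 _ ((hb.i2 x).1 hx))
    · rw [key]; exact M2.mul_mem (hb.t2 x) (ha.t2 _)
  inv_mem' := by
    intro α ha
    have hi : ∀ x, α (α⁻¹ x) = x := fun x => MulAut.apply_inv_self _ α x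
    have key : ∀ x, x⁻¹ * α⁻¹ x = ((α⁻¹ x)⁻¹ * α (α⁻¹ x))⁻¹ := fun x => by
      rw [hi]; group
    have jV : ∀ x, x ∈ V ↔ α⁻¹ x ∈ V := fun x => by rw [ha.iV (α⁻¹ x), hi]
    have j1 : ∀ x, x ∈ M1 ↔ α⁻¹ x ∈ M1 := fun x => by rw [ha.i1 (α⁻¹ x), hi]
    have j2 : ∀ x, x ∈ M2 ↔ α⁻¹ x ∈ M2 := fun x => by rw [ha.i2 (α⁻¹ x), hi]
    refine ⟨jV, j1, j2, fun x hx => ?_, fun x hx => ?_, fun x => ?_⟩
    · rw [key]; exact V.inv_mem (ha.t0 _ ((j1 x).1 hx))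
    · rw [key]; exact M1.inv_mem (ha.t1 _ ((j2 x).1 hx))
    · rw [key]; exact M2.inv_mem (ha.t2 _)

theorem mem_ChG {V M1 M2 : Subgroup Q} {β : MulAut Q} : β ∈ ChG V M1 M2 ↔ Ch V M1 M2 β := Iff.rfl

/-- the stabilizer of the chain is a `p`-group -/
theorem isPGroup_ChG {V M1 M2 : Subgroup Q} (hV : ∀ v ∈ V, ∀ x : Q, v * x = x * v)
    (hgen : ∀ β : MulAut Q, (∀ x, x⁻¹ * β x ∈ V) → ∀ v ∈ V, β v = v) {p k : ℕ}
    (hexp : ∀ x : Q, x ^ p ^ k = 1) : IsPGroup p (ChG V M1 M2) := by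
  rintro ⟨β, hβ⟩
  have hβ' : Ch V M1 M2 β := hβ
  have hpow : ∀ j, Ch V M1 M2 (β ^ j) := fun j => (ChG V M1 M2).pow_mem hβ j
  set N := p ^ k with hNdef
  -- first step
  have s1 : ∀ x ∈ M2, x⁻¹ * (β ^ N) x ∈ V := fun x hx =>
    step_triv hV β (fun v hv => (hβ'.iV v).1 hv) hβ'.t0 hexp x (hβ'.t1 x hx)
  have s2 : ∀ x, x⁻¹ * ((β ^ N) ^ N) x ∈ V := fun x =>
    step_triv hV (β ^ N) (fun v hv => ((hpow N).iV v).1 hv) s1 hexp x ((hpow N).t2 x)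
  set δ := (β ^ N) ^ N with hδ
  have s3 : ∀ v ∈ V, δ v = v := hgen δ s2
  have s4 : ∀ x, x⁻¹ * (δ ^ N) x ∈ (⊥ : Subgroup Q) := fun x =>
    step_triv (V := ⊥) (N1 := V) (fun v hv x => by
      rw [Subgroup.mem_bot] at hv; subst hv; simp) δ
      (fun v hv => by rw [Subgroup.mem_bot] at hv ⊢; subst hv; simp)
      (fun v hv => by rw [s3 v hv, Subgroup.mem_bot]; group) hexp x (s2 x)
  have s5 : δ ^ N = 1 := by
    ext x
    have := s4 x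
    rw [Subgroup.mem_bot] at this
    rw [MulAut.one_apply]
    exact (inv_mul_eq_one.1 this).symm
  refine ⟨k + k + k, ?_⟩
  ext1
  rw [Subgroup.coe_pow, Subgroup.coe_one]
  change β ^ p ^ (k + k + k) = 1
  rw [pow_add, pow_add, pow_mul, pow_mul, ← hNdef, ← hδ, s5]

end Gen

/-- the Sylow argument -/
theorem norm_of_pgroup {G : Type u} [Group G] {p : ℕ} {Q : Subgroup G} [Finite Q]
    {Γ : Subgroup (MulAut Q)}
    (hsyl : ∀ P : Subgroup (MulAut Q), P ≤ Γ → IsPGroup p P →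
      ∃ g ∈ Γ, ∀ x ∈ P, g * x * g⁻¹ ∈ autInducedBy ⊤ Q)
    {R : Subgroup (MulAut Q)} (hR : R ≤ Γ) (hRp : IsPGroup p R) (hT : autInducedBy ⊤ Q ≤ R)
    {γ : MulAut Q} (hγ : ∀ x ∈ autInducedBy (⊤ : Subgroup G) Q, γ * x * γ⁻¹ ∈ R) :
    NormAut (⊤ : Subgroup G) γ := by
  obtain ⟨g, hg, h⟩ := hsyl R hR hRp
  set T := autInducedBy (⊤ : Subgroup G) Q with hTdef
  have hle : T.map (MulAut.conj g).toMonoidHom ≤ T := by
    rintro _ ⟨x, hx, rfl⟩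
    exact h x (hT hx)
  have hfin : Finite (MulAut Q) := inferInstance
  have heq : T.map (MulAut.conj g).toMonoidHom = T := by
    apply Subgroup.eq_of_le_of_card_ge hle
    rw [Subgroup.card_map_of_injective (MulAut.conj g).injective]
  intro x hx
  have h1 := h _ (hγ x hx)
  have h2 : g * (γ * x * γ⁻¹) * g⁻¹ ∈ T.map (MulAut.conj g).toMonoidHom := by rw [heq]; exact h1
  obtain ⟨t, ht, he⟩ := h2
  have h3 : t = γ * x * γ⁻¹ := by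
    apply (MulAut.conj g).injective
    exact he
  rw [← h3]; exact ht

/-- the TI argument -/
theorem ti_core {G : Type u} [Group G] [Finite G] {p k : ℕ} (hexp : ∀ x : G, x ^ p ^ k = 1)
    {Q V M1 M2 : Subgroup G} (h1 : V ≤ M1) (h2 : M1 ≤ M2) (h3 : M2 ≤ Q)
    (hVc : ∀ v ∈ V, ∀ x ∈ Q, v * x = x * v)
    (hVgen : ∀ β : MulAut Q, (∀ x : Q, ((x⁻¹ * β x : Q) : G) ∈ V) → ∀ v : Q, (v : G) ∈ V → β v = v)
    (hT2 : ∀ g : G, ∀ x ∈ Q, x⁻¹ * (g * x * g⁻¹) ∈ M2)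
    (hT1 : ∀ g : G, ∀ x ∈ M2, x⁻¹ * (g * x * g⁻¹) ∈ M1)
    (hT0 : ∀ g : G, ∀ x ∈ M1, x⁻¹ * (g * x * g⁻¹) ∈ V)
    {Γ : Subgroup (MulAut Q)} (hΓ : autInducedBy ⊤ Q ≤ Γ)
    (hsyl : ∀ P : Subgroup (MulAut Q), P ≤ Γ → IsPGroup p P →
      ∃ g ∈ Γ, ∀ x ∈ P, g * x * g⁻¹ ∈ autInducedBy ⊤ Q)
    {γ : MulAut Q} (hγ : γ ∈ Γ)
    (gV : ∀ x : Q, (x : G) ∈ V ↔ ((γ x : Q) : G) ∈ V)
    (g1 : ∀ x : Q, (x : G) ∈ M1 ↔ ((γ x : Q) : G) ∈ M1)
    (g2 : ∀ x : Q, (x : G) ∈ M2 ↔ ((γ x : Q) : G) ∈ M2) : NormAut (⊤ : Subgroup G) γ := by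
  set R0 : Subgroup (MulAut Q) := ChG (V.subgroupOf Q) (M1.subgroupOf Q) (M2.subgroupOf Q) with hR0
  have hnV : ∀ (g : G), ∀ x ∈ V, g * x * g⁻¹ ∈ V := fun g x hx => by
    have := V.mul_mem hx (hT0 g x (h1 hx)); simpa [mul_assoc] using this
  have hn1 : ∀ (g : G), ∀ x ∈ M1, g * x * g⁻¹ ∈ M1 := fun g x hx => by
    have := M1.mul_mem hx (hT1 g x (h2 hx)); simpa [mul_assoc] using this
  have hn2 : ∀ (g : G), ∀ x ∈ M2, g * x * g⁻¹ ∈ M2 := fun g x hx => by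
    have := M2.mul_mem hx (hT2 g x (h3 hx)); simpa [mul_assoc] using this
  have iffn : ∀ (M : Subgroup G), (∀ (g : G), ∀ x ∈ M, g * x * g⁻¹ ∈ M) →
      ∀ g x, x ∈ M ↔ g * x * g⁻¹ ∈ M := fun M hM g x => by
    refine ⟨hM g x, fun h => ?_⟩
    have := hM g⁻¹ _ h
    simpa [mul_assoc] using this
  -- the induced automorphisms are in `R0`
  have hTR : autInducedBy ⊤ Q ≤ R0 := by
    intro α hα
    obtain ⟨g, -, hg⟩ := (Cfsg.Agent.H802.mem_autInducedBy_iff _ _ _).1 hα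
    rw [hR0, mem_ChG]
    refine ⟨fun x => ?_, fun x => ?_, fun x => ?_, fun x hx => ?_, fun x hx => ?_, fun x => ?_⟩
    · rw [Subgroup.mem_subgroupOf, Subgroup.mem_subgroupOf, hg]; exact iffn V hnV g _
    · rw [Subgroup.mem_subgroupOf, Subgroup.mem_subgroupOf, hg]; exact iffn M1 hn1 g _
    · rw [Subgroup.mem_subgroupOf, Subgroup.mem_subgroupOf, hg]; exact iffn M2 hn2 g _
    · rw [Subgroup.mem_subgroupOf] at hx ⊢
      rw [Subgroup.coe_mul, Subgroup.coe_inv, hg]; exact hT0 g _ hx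
    · rw [Subgroup.mem_subgroupOf] at hx ⊢
      rw [Subgroup.coe_mul, Subgroup.coe_inv, hg]; exact hT1 g _ hx
    · rw [Subgroup.mem_subgroupOf]
      rw [Subgroup.coe_mul, Subgroup.coe_inv, hg]; exact hT2 g _ x.2
  have hRp : IsPGroup p R0 := by
    refine isPGroup_ChG (k := k) ?_ ?_ ?_
    · intro v hv x
      ext
      exact hVc v hv x x.2
    · intro β hβ v hv
      exact hVgen β (fun x => hβ x) v hv
    · intro x
      ext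
      rw [Subgroup.coe_pow, hexp]; rfl
  -- the conjugates
  have hγT : ∀ x ∈ autInducedBy (⊤ : Subgroup G) Q, γ * x * γ⁻¹ ∈ R0 := by
    intro t ht
    have ht' : Ch _ _ _ t := hTR ht
    have hi : ∀ x, γ (γ⁻¹ x) = x := fun x => MulAut.apply_inv_self _ γ x
    have jj : ∀ M : Subgroup G, (∀ x : Q, (x : G) ∈ M ↔ ((γ x : Q) : G) ∈ M) →
        ∀ x : Q, x ∈ M.subgroupOf Q ↔ γ⁻¹ x ∈ M.subgroupOf Q := fun M hM x => by
      rw [Subgroup.mem_subgroupOf, Subgroup.mem_subgroupOf, hM (γ⁻¹ x), hi]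
    have key : ∀ x, x⁻¹ * (γ * t * γ⁻¹) x = γ ((γ⁻¹ x)⁻¹ * t (γ⁻¹ x)) := fun x => by
      rw [map_mul, map_inv, hi, MulAut.mul_apply, MulAut.mul_apply]
    have ii : ∀ M : Subgroup G, (∀ x : Q, (x : G) ∈ M ↔ ((γ x : Q) : G) ∈ M) →
        (∀ x, x ∈ M.subgroupOf Q ↔ t x ∈ M.subgroupOf Q) →
        ∀ x, x ∈ M.subgroupOf Q ↔ (γ * t * γ⁻¹) x ∈ M.subgroupOf Q := fun M hM hM' x => by
      rw [MulAut.mul_apply, MulAut.mul_apply, jj M hM x, hM' (γ⁻¹ x), Subgroup.mem_subgroupOf,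
        Subgroup.mem_subgroupOf, hM]
    rw [hR0, mem_ChG]
    refine ⟨ii V gV ht'.iV, ii M1 g1 ht'.i1, ii M2 g2 ht'.i2, fun x hx => ?_, fun x hx => ?_, fun x => ?_⟩
    · rw [key, Subgroup.mem_subgroupOf, ← gV]
      exact ht'.t0 _ ((jj M1 g1 x).1 hx)
    · rw [key, Subgroup.mem_subgroupOf, ← g1]
      exact ht'.t1 _ ((jj M2 g2 x).1 hx)
    · rw [key, Subgroup.mem_subgroupOf, ← g2]
      exact ht'.t2 _
  have hle : R0 ⊓ Γ ≤ R0 := inf_le_left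
  have hRp' : IsPGroup p (R0 ⊓ Γ : Subgroup (MulAut Q)) := hRp.to_le hle
  refine norm_of_pgroup hsyl (R := R0 ⊓ Γ) inf_le_right hRp' (le_inf hTR hΓ) ?_
  intro x hx
  exact ⟨hγT x hx, Γ.mul_mem (Γ.mul_mem hγ (hΓ hx)) (Γ.inv_mem hγ)⟩

end Cfsg.Agent.H294.PU
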