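import Cfsg.Agent.H294.PU.Gen
import Cfsg.Agent.H294.PU.Coord

/-!
# S5258 [PU-TI] (helper294)

`Aut_S(Q)` is TI modulo `Inn(Q)` for `Q = Q1, Q2`; both are centric, proper and characteristic in `UG K`.
-/

set_option autoImplicit false

namespace Cfsg.Agent.H294.PU

open Cfsg Cfsg.FusionSystem Cfsg.Agent.H756.PU

universe u

section

variable {K : Type u} [Field K] [StarRing K] {p n : ℕ}

/-! ### finiteness and exponent -/

theorem finite_UG (h : HypK K p n) : Finite (UG K) := by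
  haveI := h.fin
  refine Finite.of_injective (β := K × K × K × K × K × K) (fun x => (x.r, x.u1, x.u2, x.a, x.b, x.c)) ?_
  intro x y hxy
  simp only [Prod.mk.injEq] at hxy
  obtain ⟨h1, h2, h3, h4, h5, h6⟩ := hxy
  exact UG.ext h1 h2 h3 h4 h5 h6

theorem pow_r (x : UG K) (j : ℕ) : (x ^ j).r = j * x.r := by
  induction j with
  | zero => simp
  | succ j ih => rw [pow_succ, UG.mul_r, ih]; push_cast; ring

theorem pow_u2 (x : UG K) (j : ℕ) : (x ^ j).u2 = j * x.u2 := by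
  induction j with
  | zero => simp
  | succ j ih => rw [pow_succ, UG.mul_u2, ih]; push_cast; ring

theorem pow_u1 (x : UG K) (hx : x ∈ YY K) (j : ℕ) : (x ^ j).u1 = j * x.u1 := by
  obtain ⟨h1, h2⟩ := hx
  induction j with
  | zero => simp
  | succ j ih => rw [pow_succ, UG.mul_u1, ih, pow_r, h1, h2]; push_cast; ring

theorem pow_V (x : UG K) (hx : x ∈ VV K) (j : ℕ) :
    (x ^ j).a = j * x.a ∧ (x ^ j).b = j * x.b ∧ (x ^ j).c = j * x.c := by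
  obtain ⟨h1, h2, h3⟩ := hx
  induction j with
  | zero => simp
  | succ j ih =>
    obtain ⟨i1, i2, i3⟩ := ih
    have k1 : (x ^ j).r = 0 := by rw [pow_r, h1, mul_zero]
    have k2 : (x ^ j).u1 = 0 := by rw [pow_u1 x ⟨h1, h3⟩, h2, mul_zero]
    have k3 : (x ^ j).u2 = 0 := by rw [pow_u2, h3, mul_zero]
    refine ⟨?_, ?_, ?_⟩
    · rw [pow_succ, UG.mul_a, k1, k2, i1]; push_cast; simp; ring
    · rw [pow_succ, UG.mul_b, k1, k2, i2]; push_cast; ring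
    · rw [pow_succ, UG.mul_c, k3, i3]; push_cast; ring

theorem exp_UG (h : HypK K p n) (x : UG K) : x ^ p ^ 3 = 1 := by
  haveI := h.char
  have hp : (p : K) = 0 := CharP.cast_eq_zero K p
  have e1 : x ^ p ∈ YY K := ⟨by rw [pow_r, hp, zero_mul], by rw [pow_u2, hp, zero_mul]⟩
  have e2 : (x ^ p) ^ p ∈ VV K := ⟨by rw [pow_r, hp, zero_mul], by rw [pow_u1 _ e1, hp, zero_mul],
    by rw [pow_u2, hp, zero_mul]⟩
  have e3 : ((x ^ p) ^ p) ^ p = 1 := by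
    obtain ⟨i1, i2, i3⟩ := pow_V _ e2 p
    ext
    · rw [pow_r, hp, zero_mul, UG.one_r]
    · rw [pow_u1 _ ⟨e2.1, e2.2.2⟩, hp, zero_mul, UG.one_u1]
    · rw [pow_u2, hp, zero_mul, UG.one_u2]
    · rw [i1, hp, zero_mul, UG.one_a]
    · rw [i2, hp, zero_mul, UG.one_b]
    · rw [i3, hp, zero_mul, UG.one_c]
  rw [← e3, ← pow_mul, ← pow_mul]
  congr 1
  ring

/-! ### commutators generate `V` -/

theorem comm_eq {x y v : UG K} (hx : x.r = 0) (hy : y.r = 0) (hv : v ∈ VV K)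
    (ha : v.a = y.u1 * star x.u1 - x.u1 * star y.u1) (hb : v.b = y.u1 * star x.u2 - x.u1 * star y.u2)
    (hc : v.c = y.u2 * star x.u2 - x.u2 * star y.u2) : x * y * x⁻¹ * y⁻¹ = v := by
  obtain ⟨h1, h2, h3⟩ := hv
  have he : x * y = v * (y * x) := by
    ext
    · simp [h1, hx, hy]
    · simp only [UG.mul_u1, UG.mul_r, h1, h2, hx, hy]; ring
    · simp only [UG.mul_u2, h3]; ring
    · simp only [UG.mul_a, UG.mul_r, h1, h2, hx, hy, ha, star_zero]; ring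
    · simp only [UG.mul_b, UG.mul_r, h1, h2, hx, hy, hb]; ring
    · simp only [UG.mul_c, h3, hc]; ring
  rw [he]; group

/-- an automorphism trivial modulo the centre fixes commutators -/
theorem fix_comm {Q : Type u} [Group Q] (β : MulAut Q)
    (h : ∀ x, ∀ y, (x⁻¹ * β x) * y = y * (x⁻¹ * β x)) (x y : Q) :
    β (x * y * x⁻¹ * y⁻¹) = x * y * x⁻¹ * y⁻¹ := by
  have hx : β x = x * (x⁻¹ * β x) := by group
  have hy : β y = y * (y⁻¹ * β y) := by group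
  set v := x⁻¹ * β x
  set w := y⁻¹ * β y
  have hv : ∀ z, v * z = z * v := h x
  have hw : ∀ z, w * z = z * w := h y
  rw [map_mul, map_mul, map_mul, map_inv, map_inv, hx, hy]
  calc x * v * (y * w) * (x * v)⁻¹ * (y * w)⁻¹ = x * (v * (y * w)) * v⁻¹ * x⁻¹ * (w⁻¹ * y⁻¹) := by group
    _ = x * (y * w) * x⁻¹ * (w⁻¹ * y⁻¹) := by rw [hv]; group
    _ = x * y * (w * x⁻¹) * (w⁻¹ * y⁻¹) := by group
    _ = x * y * x⁻¹ * y⁻¹ := by rw [hw]; group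

theorem eu1_mem_Q1 {u a : K} (h : a + star a + u * star u = 0) : eu1 u a h ∈ Q1 K := ⟨rfl, rfl⟩
theorem eu1_mem_Q2 {u a : K} (h : a + star a + u * star u = 0) : eu1 u a h ∈ Q2 K := rfl
theorem eu2_mem_Q2 {u c : K} (h : c + star c + u * star u = 0) : eu2 u c h ∈ Q2 K := rfl

/-- `Z` consists of commutators of elements of `Y1` -/
theorem Z_comm_form (h : HypK K p n) {v : UG K} (hv : v ∈ ZS K) :
    ∃ x ∈ Y1 K, ∃ y ∈ Y1 K, v = x * y * x⁻¹ * y⁻¹ := by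
  obtain ⟨h1, h2, h3, h4, h5⟩ := hv
  have hva : v.a + star v.a = 0 := by have := v.ha; rw [h2] at this; simpa using this
  obtain ⟨t, ht⟩ := exists_sub h hva
  obtain ⟨a1, ha1⟩ := exists_norm h t
  obtain ⟨a2, ha2⟩ := exists_norm h (1 : K)
  refine ⟨eu1 t a1 ha1, mem_Y1.2 ⟨rfl, rfl, rfl⟩, eu1 1 a2 ha2, mem_Y1.2 ⟨rfl, rfl, rfl⟩, ?_⟩
  refine (comm_eq rfl rfl ⟨h1, h2, h3⟩ ?_ ?_ ?_).symm
  · simp [eu1, ht]
  · simp [eu1, h4]
  · simp [eu1, h5]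

/-- `V` is generated by commutators of elements of `Q2` -/
theorem V_comm_form (h : HypK K p n) {v : UG K} (hv : v ∈ VV K) :
    ∃ x1 ∈ Q2 K, ∃ y1 ∈ Q2 K, ∃ x2 ∈ Q2 K, ∃ y2 ∈ Q2 K, ∃ x3 ∈ Q2 K, ∃ y3 ∈ Q2 K,
      v = (x1 * y1 * x1⁻¹ * y1⁻¹) * (x2 * y2 * x2⁻¹ * y2⁻¹) * (x3 * y3 * x3⁻¹ * y3⁻¹) := by
  obtain ⟨h1, h2, h3⟩ := hv
  have hva : v.a + star v.a = 0 := by have := v.ha; rw [h2] at this; simpa using this
  have hvc : v.c + star v.c = 0 := by have := v.hc; rw [h3] at this; simpa using this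
  obtain ⟨t, ht⟩ := exists_sub h hva
  obtain ⟨s, hs⟩ := exists_sub h hvc
  obtain ⟨a1, ha1⟩ := exists_norm h t
  obtain ⟨a2, ha2⟩ := exists_norm h (1 : K)
  obtain ⟨a3, ha3⟩ := exists_norm h v.b
  obtain ⟨a4, ha4⟩ := exists_norm h s
  have E1 : eu1 t a1 ha1 * eu1 1 a2 ha2 * (eu1 t a1 ha1)⁻¹ * (eu1 1 a2 ha2)⁻¹ =
      ⟨0, 0, 0, v.a, 0, 0, by simpa using hva, by simp⟩ := by
    refine comm_eq rfl rfl ⟨rfl, rfl, rfl⟩ ?_ ?_ ?_ <;> simp [eu1, ht]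
  have E2 : eu2 1 a2 ha2 * eu1 v.b a3 ha3 * (eu2 1 a2 ha2)⁻¹ * (eu1 v.b a3 ha3)⁻¹ =
      ⟨0, 0, 0, 0, v.b, 0, by simp, by simp⟩ := by
    refine comm_eq rfl rfl ⟨rfl, rfl, rfl⟩ ?_ ?_ ?_ <;> simp [eu1, eu2]
  have E3 : eu2 s a4 ha4 * eu2 1 a2 ha2 * (eu2 s a4 ha4)⁻¹ * (eu2 1 a2 ha2)⁻¹ =
      ⟨0, 0, 0, 0, 0, v.c, by simp, by simpa using hvc⟩ := by
    refine comm_eq rfl rfl ⟨rfl, rfl, rfl⟩ ?_ ?_ ?_ <;> simp [eu2, hs]
  refine ⟨_, eu1_mem_Q2 ha1, _, eu1_mem_Q2 ha2, _, eu2_mem_Q2 ha2, _, eu1_mem_Q2 ha3, _, eu2_mem_Q2 ha4, _,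
    eu2_mem_Q2 ha2, ?_⟩
  rw [E1, E2, E3]
  ext
  · simp [h1]
  · simp [h2]
  · simp [h3]
  · simp [UG.mul_a]
  · simp [UG.mul_b]
  · simp

/-! ### centralizers -/

/-- elements of `Q2` commuting with `Q2` -/
theorem mem_V_iff (h : HypK K p n) {x : UG K} (hx : x ∈ Q2 K) : x ∈ VV K ↔ ∀ y ∈ Q2 K, x * y = y * x := by
  refine ⟨fun hv y hy => V_comm hv hy, fun hc => ?_⟩
  have hr : x.r = 0 := hx
  obtain ⟨a2, ha2⟩ := exists_norm h (1 : K)
  obtain ⟨b, hb⟩ := exists_star_ne h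
  obtain ⟨a3, ha3⟩ := exists_norm h b
  have k1 : ∀ u a (hh : a + star a + u * star u = 0), x.u1 * star u = u * star x.u1 := fun u a hh => by
    have := congrArg UG.a (hc _ (eu1_mem_Q2 hh))
    simp only [UG.mul_a, eu1, UG.d, hr, star_zero, mul_zero, zero_mul] at this
    linear_combination -this
  have k2 : ∀ u a (hh : a + star a + u * star u = 0), x.u2 * star u = u * star x.u2 := fun u a hh => by
    have := congrArg UG.c (hc _ (eu2_mem_Q2 hh))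
    simp only [UG.mul_c, eu2] at this
    linear_combination -this
  have fin : ∀ w : K, w * star 1 = 1 * star w → w * star b = b * star w → w = 0 := fun w e1 e2 => by
    rw [star_one, mul_one, one_mul] at e1
    have e3 : w * (star b - b) = 0 := by linear_combination e2 - b * e1
    rcases mul_eq_zero.1 e3 with e4 | e4
    · exact e4
    · exact absurd (sub_eq_zero.1 e4) hb
  exact ⟨hr, fin _ (k1 _ _ ha2) (k1 _ _ ha3), fin _ (k2 _ _ ha2) (k2 _ _ ha3)⟩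

/-- elements commuting with `Q1` -/
theorem mem_Z_of_comm (h : HypK K p n) {x : UG K} (hc : ∀ y ∈ Q1 K, x * y = y * x) : x ∈ ZS K := by
  obtain ⟨a2, ha2⟩ := exists_norm h (1 : K)
  obtain ⟨b, hb⟩ := exists_star_ne h
  obtain ⟨a3, ha3⟩ := exists_norm h b
  have hr : x.r = 0 := comm_eb (fun b => hc _ ⟨rfl, rfl⟩) (exists_star_ne h)
  have hy := hc (er 1) ⟨rfl, rfl⟩
  have g1 : x.u2 = 0 := by
    have := congrArg UG.u1 hy
    simp only [UG.mul_u1, er, hr] at this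
    linear_combination -this
  have g2 : x.c = 0 := by
    have := congrArg UG.b hy
    simp only [UG.mul_b, er, hr, star_zero, mul_zero, zero_mul] at this
    linear_combination -this
  have k1 : ∀ u a (hh : a + star a + u * star u = 0), x.u1 * star u = u * star x.u1 := fun u a hh => by
    have := congrArg UG.a (hc _ (eu1_mem_Q1 hh))
    simp only [UG.mul_a, eu1, UG.d, hr, star_zero, mul_zero, zero_mul, g1] at this
    linear_combination -this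
  have g3 : x.u1 = 0 := by
    have e1 := k1 _ _ ha2
    have e2 := k1 _ _ ha3
    rw [star_one, mul_one, one_mul] at e1
    have e3 : x.u1 * (star b - b) = 0 := by linear_combination e2 - b * e1
    rcases mul_eq_zero.1 e3 with e4 | e4
    · exact e4
    · exact absurd (sub_eq_zero.1 e4) hb
  have kb : ∀ t : K, star t * x.b - t * star x.b = 0 := fun t => by
    have := congrArg UG.a (hc (er t) ⟨rfl, rfl⟩)
    simp only [UG.mul_a, er, UG.d, hr, star_zero, mul_zero, zero_mul, g1, g2, g3] at this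
    linear_combination -this
  have g4 : x.b = 0 := by
    have e1 := kb 1
    have e2 := kb b
    rw [star_one] at e1
    have e3 : x.b * (star b - b) = 0 := by linear_combination e2 - b * e1
    rcases mul_eq_zero.1 e3 with e4 | e4
    · exact e4
    · exact absurd (sub_eq_zero.1 e4) hb
  exact ⟨hr, g3, g1, g4, g2⟩

/-- elements of `Q1` commuting with `Z2` -/
theorem mem_Y1_iff (h : HypK K p n) {x : UG K} (hx : x ∈ Q1 K) : x ∈ Y1 K ↔ ∀ z ∈ Z2 K, x * z = z * x := by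
  rw [← mem_Q2_iff (exists_star_ne h)]
  exact ⟨fun h => h.2, fun h => ⟨hx, h⟩⟩

/-- elements of `Q1` commuting with `Y1` -/
theorem mem_Z2_iff (h : HypK K p n) {x : UG K} (hx : x ∈ Q1 K) : x ∈ Z2 K ↔ ∀ y ∈ Y1 K, x * y = y * x := by
  constructor
  · intro hz y hy
    exact (Z2_comm_of_r hy.2 hz).symm
  · intro hc
    obtain ⟨a2, ha2⟩ := exists_norm h (1 : K)
    obtain ⟨b, hb⟩ := exists_star_ne h
    obtain ⟨a3, ha3⟩ := exists_norm h b
    have hr : x.r = 0 := comm_eb (fun b => hc _ (mem_Y1.2 ⟨rfl, rfl, rfl⟩)) (exists_star_ne h)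
    have k1 : ∀ u a (hh : a + star a + u * star u = 0), x.u1 * star u = u * star x.u1 := fun u a hh => by
      have := congrArg UG.a (hc (eu1 u a hh) (mem_Y1.2 ⟨rfl, rfl, rfl⟩))
      simp only [UG.mul_a, eu1, UG.d, hr, star_zero, mul_zero, zero_mul, hx.1] at this
      linear_combination -this
    have g3 : x.u1 = 0 := by
      have e1 := k1 _ _ ha2
      have e2 := k1 _ _ ha3
      rw [star_one, mul_one, one_mul] at e1
      have e3 : x.u1 * (star b - b) = 0 := by linear_combination e2 - b * e1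
      rcases mul_eq_zero.1 e3 with e4 | e4
      · exact e4
      · exact absurd (sub_eq_zero.1 e4) hb
    exact ⟨hr, g3, hx.1, hx.2⟩

theorem Z2_abelian {x y : UG K} (hx : x ∈ Z2 K) (hy : y ∈ Z2 K) : x * y = y * x := Z2_comm_of_r hx.1 hy

theorem Y1_nonabelian (h : HypK K p n) : ∃ x ∈ Y1 K, ∃ y ∈ Y1 K, x * y ≠ y * x := by
  obtain ⟨a2, ha2⟩ := exists_norm h (1 : K)
  obtain ⟨b, hb⟩ := exists_star_ne h
  obtain ⟨a3, ha3⟩ := exists_norm h b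
  refine ⟨eu1 1 a2 ha2, mem_Y1.2 ⟨rfl, rfl, rfl⟩, eu1 b a3 ha3, mem_Y1.2 ⟨rfl, rfl, rfl⟩, fun he => hb ?_⟩
  have := congrArg UG.a he
  simp only [UG.mul_a, eu1, UG.d, star_zero, mul_zero, zero_mul, star_one, one_mul] at this
  linear_combination -this

/-! ### the actions of `S` -/

theorem inv_mul_mem {N : Subgroup (UG K)} (hn : ∀ g : UG K, ∀ x ∈ N, g * x * g⁻¹ ∈ N) {g x : UG K}
    (h : g * x * g⁻¹ * x⁻¹ ∈ N) : x⁻¹ * (g * x * g⁻¹) ∈ N := by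
  have := hn x⁻¹ _ h
  simpa [mul_assoc] using this

theorem conj_mem_of {N : Subgroup (UG K)} {g x : UG K} (hx : x ∈ N)
    (h : g * x * g⁻¹ * x⁻¹ ∈ N) : g * x * g⁻¹ ∈ N := by
  have := N.mul_mem h hx
  simpa [mul_assoc] using this

theorem a_Q2 (g : UG K) {x : UG K} (hx : x ∈ Q2 K) : g * x * g⁻¹ * x⁻¹ ∈ YY K := by
  apply commYY
  · simp only [UG.mul_r]; ring
  · simp only [UG.mul_u2]; ring

theorem a_YY (g : UG K) {x : UG K} (hx : x ∈ YY K) : g * x * g⁻¹ * x⁻¹ ∈ VV K := by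
  rw [commV_iff, hx.1, hx.2]; ring

theorem a_Q1 (g : UG K) {x : UG K} (hx : x ∈ Q1 K) : g * x * g⁻¹ * x⁻¹ ∈ Y1 K := by
  apply commY1
  · simp only [UG.mul_r]; ring
  · simp only [UG.mul_u2]; ring
  · simp only [UG.mul_c, hx.1, hx.2, star_zero]; ring

theorem a_Y1 (g : UG K) {x : UG K} (hx : x ∈ Y1 K) : g * x * g⁻¹ * x⁻¹ ∈ Z2 K := by
  obtain ⟨h1, h2, h3⟩ := mem_Y1.1 hx
  rw [commZ2]
  simp only [UG.mul_r, UG.mul_u1, UG.mul_u2, UG.mul_c, h1, h2, h3, star_zero]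
  exact ⟨by ring, by ring, by ring, by ring⟩

theorem a_Z2 (g : UG K) {x : UG K} (hx : x ∈ Z2 K) : g * x * g⁻¹ * x⁻¹ ∈ ZS K := by
  obtain ⟨h1, h2, h3, h4⟩ := hx
  rw [commZ_iff]
  simp only [h1, h2, h3, h4, star_zero]
  exact ⟨by ring, by ring, by ring⟩

theorem a_ZS (g : UG K) {x : UG K} (hx : x ∈ ZS K) : g * x * g⁻¹ * x⁻¹ = 1 := by
  rw [← Z_comm hx]; group

theorem ZS_le_Z2 : ZS K ≤ Z2 K := fun _ h => ⟨h.1, h.2.1, h.2.2.1, h.2.2.2.2⟩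
theorem Z2_le_Y1 : Z2 K ≤ Y1 K := fun _ h => mem_Y1.2 ⟨h.2.2.1, h.2.2.2, h.1⟩
theorem Y1_le_Q1 : Y1 K ≤ Q1 K := inf_le_left
theorem VV_le_YY : VV K ≤ YY K := fun _ h => ⟨h.1, h.2.2⟩
theorem YY_le_Q2 : YY K ≤ Q2 K := fun _ h => h.1
theorem Z2_le_VV : Z2 K ≤ VV K := fun _ h => ⟨h.1, h.2.1, h.2.2.1⟩

theorem n_Q2 (g x : UG K) (hx : x ∈ Q2 K) : g * x * g⁻¹ ∈ Q2 K := conj_mem_of hx (YY_le_Q2 (a_Q2 g hx))
theorem n_YY (g x : UG K) (hx : x ∈ YY K) : g * x * g⁻¹ ∈ YY K := conj_mem_of hx (VV_le_YY (a_YY g hx))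
theorem n_VV (g x : UG K) (hx : x ∈ VV K) : g * x * g⁻¹ ∈ VV K := conj_mem_of hx (a_YY g (VV_le_YY hx))
theorem n_Q1 (g x : UG K) (hx : x ∈ Q1 K) : g * x * g⁻¹ ∈ Q1 K := conj_mem_of hx (Y1_le_Q1 (a_Q1 g hx))
theorem n_Y1 (g x : UG K) (hx : x ∈ Y1 K) : g * x * g⁻¹ ∈ Y1 K := conj_mem_of hx (Z2_le_Y1 (a_Y1 g hx))
theorem n_Z2 (g x : UG K) (hx : x ∈ Z2 K) : g * x * g⁻¹ ∈ Z2 K := conj_mem_of hx (ZS_le_Z2 (a_Z2 g hx))
theorem n_ZS (g x : UG K) (hx : x ∈ ZS K) : g * x * g⁻¹ ∈ ZS K := conj_mem_of hx (a_Z2 g (ZS_le_Z2 hx))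

/-! ### the two TI statements -/

/-- a subset of `Q` characterized by commutation with an invariant set is invariant -/
theorem inv_of_comm {Q : Subgroup (UG K)} {A B : Subgroup (UG K)} (hB : B ≤ Q)
    (h : ∀ x ∈ Q, x ∈ A ↔ ∀ y ∈ B, x * y = y * x) (γ : MulAut Q)
    (hγ : ∀ x : Q, (x : UG K) ∈ B ↔ ((γ x : Q) : UG K) ∈ B) :
    ∀ x : Q, (x : UG K) ∈ A ↔ ((γ x : Q) : UG K) ∈ A := by
  intro x
  rw [h x x.2, h _ (γ x).2]
  constructor
  · intro hx y hy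
    set y' : Q := γ⁻¹ ⟨y, hB hy⟩ with hy'
    have h1 : γ y' = ⟨y, hB hy⟩ := MulAut.apply_inv_self _ γ _
    have h2 : (y' : UG K) ∈ B := by rw [hγ, h1]; exact hy
    have h3 : x * y' = y' * x := by ext1; exact hx _ h2
    have h4 := congrArg γ h3
    rw [map_mul, map_mul, h1] at h4
    exact congrArg Subtype.val h4
  · intro hx y hy
    have h2 := hx _ ((hγ ⟨y, hB hy⟩).1 hy)
    have h4 : γ (x * ⟨y, hB hy⟩) = γ (⟨y, hB hy⟩ * x) := by
      rw [map_mul, map_mul]; ext1; exact h2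
    exact congrArg Subtype.val (γ.injective h4)

/-- transport of the condition `[g, e] ∈ N` -/
theorem transport {Q : Subgroup (UG K)} {N : Subgroup (UG K)} {γ t : MulAut Q} {g h : UG K}
    (hg : ∀ x : Q, ((t x : Q) : UG K) = g * (x : UG K) * g⁻¹)
    (hh : ∀ x : Q, (((γ * t * γ⁻¹) x : Q) : UG K) = h * (x : UG K) * h⁻¹)
    (hN : ∀ x : Q, (x : UG K) ∈ N ↔ ((γ x : Q) : UG K) ∈ N) (e : Q) :
    g * (e : UG K) * g⁻¹ * (e : UG K)⁻¹ ∈ N ↔
      h * ((γ e : Q) : UG K) * h⁻¹ * ((γ e : Q) : UG K)⁻¹ ∈ N := by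
  rw [← hg, ← hh]
  have h1 : (γ * t * γ⁻¹) (γ e) = γ (t e) := by
    rw [MulAut.mul_apply, MulAut.mul_apply, MulAut.inv_apply_self]
  rw [h1]
  have h2 := hN (t e * e⁻¹)
  rw [map_mul, map_inv] at h2
  exact h2

/-- an induced automorphism which is not inner is induced by elements outside `Q` -/
theorem not_mem_of_not_inn {Q : Subgroup (UG K)} {t : MulAut Q} {g : UG K}
    (hg : ∀ x : Q, ((t x : Q) : UG K) = g * (x : UG K) * g⁻¹) (ht : t ∉ Inn Q) : g ∉ Q := by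
  intro hgQ
  apply ht
  refine ⟨⟨g, hgQ⟩, ?_⟩
  ext1 x
  apply Subtype.ext
  rw [hg]; rfl

theorem ti2 (hK : HypK K p n) {Γ : Subgroup (MulAut (Q2 K))} (hΓ : autInducedBy ⊤ (Q2 K) ≤ Γ)
    (hsyl : ∀ P : Subgroup (MulAut (Q2 K)), P ≤ Γ → IsPGroup p P →
      ∃ g ∈ Γ, ∀ x ∈ P, g * x * g⁻¹ ∈ autInducedBy ⊤ (Q2 K)) : TIAut (⊤ : Subgroup (UG K)) Γ := by
  intro γ hγ t ht hti hti'
  haveI := finite_UG hK
  obtain ⟨g, -, hg⟩ := (Cfsg.Agent.H802.mem_autInducedBy_iff _ _ _).1 ht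
  obtain ⟨h, -, hh⟩ := (Cfsg.Agent.H802.mem_autInducedBy_iff _ _ _).1 hti'
  have hgr : g.r ≠ 0 := not_mem_of_not_inn hg hti
  have hni : γ * t * γ⁻¹ ∉ Inn (Q2 K) := fun hc => by
    apply hti
    obtain ⟨y, hy⟩ := hc
    refine ⟨γ⁻¹ y, ?_⟩
    have h1 : t = γ⁻¹ * (γ * t * γ⁻¹) * γ := by group
    rw [h1, ← hy]
    ext1 z
    rw [MulAut.mul_apply, MulAut.mul_apply, MulAut.conj_apply, MulAut.conj_apply, map_mul, map_mul,
      map_inv, MulAut.inv_apply_self]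
  have hhr : h.r ≠ 0 := not_mem_of_not_inn hh hni
  have gV : ∀ x : Q2 K, (x : UG K) ∈ VV K ↔ ((γ x : Q2 K) : UG K) ∈ VV K :=
    inv_of_comm le_rfl (fun x hx => mem_V_iff hK hx) γ (fun x => ⟨fun _ => (γ x).2, fun _ => x.2⟩)
  have char : ∀ g : UG K, g.r ≠ 0 → ∀ e : Q2 K, (e : UG K) ∈ YY K ↔
      g * (e : UG K) * g⁻¹ * (e : UG K)⁻¹ ∈ VV K := fun g hg e => by
    have her : (e : UG K).r = 0 := e.2
    rw [commV_iff, her, zero_mul]
    constructor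
    · intro he; rw [he.2, mul_zero]
    · intro he; exact ⟨her, (mul_eq_zero.1 he).resolve_left hg⟩
  have g2 : ∀ x : Q2 K, (x : UG K) ∈ YY K ↔ ((γ x : Q2 K) : UG K) ∈ YY K := fun e => by
    rw [char g hgr e, char h hhr (γ e)]
    exact transport hg hh gV e
  refine ti_core (exp_UG hK) (V := VV K) (M1 := VV K) (M2 := YY K) le_rfl VV_le_YY YY_le_Q2
    (fun v hv x hx => V_comm hv hx) ?_ (fun g x hx => inv_mul_mem n_YY (a_Q2 g hx))
    (fun g x hx => inv_mul_mem n_VV (a_YY g hx))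
    (fun g x hx => inv_mul_mem n_VV (a_YY g (VV_le_YY hx))) hΓ hsyl hγ gV gV g2
  intro β hβ v hv
  obtain ⟨x1, hx1, y1, hy1, x2, hx2, y2, hy2, x3, hx3, y3, hy3, he⟩ := V_comm_form hK hv
  have hc : ∀ x y : Q2 K, (x⁻¹ * β x) * y = y * (x⁻¹ * β x) := fun x y => by
    ext1; exact V_comm (hβ x) y.2
  have he' : v = (⟨x1, hx1⟩ * ⟨y1, hy1⟩ * ⟨x1, hx1⟩⁻¹ * ⟨y1, hy1⟩⁻¹) *
      (⟨x2, hx2⟩ * ⟨y2, hy2⟩ * ⟨x2, hx2⟩⁻¹ * ⟨y2, hy2⟩⁻¹) *
      (⟨x3, hx3⟩ * ⟨y3, hy3⟩ * ⟨x3, hx3⟩⁻¹ * ⟨y3, hy3⟩⁻¹) := by ext1; exact he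
  rw [he', map_mul, map_mul, fix_comm β hc, fix_comm β hc, fix_comm β hc]

theorem ti1 (hK : HypK K p n) {Γ : Subgroup (MulAut (Q1 K))} (hΓ : autInducedBy ⊤ (Q1 K) ≤ Γ)
    (hsyl : ∀ P : Subgroup (MulAut (Q1 K)), P ≤ Γ → IsPGroup p P →
      ∃ g ∈ Γ, ∀ x ∈ P, g * x * g⁻¹ ∈ autInducedBy ⊤ (Q1 K)) : TIAut (⊤ : Subgroup (UG K)) Γ := by
  intro γ hγ t ht hti hti'
  haveI := finite_UG hK
  obtain ⟨g, -, hg⟩ := (Cfsg.Agent.H802.mem_autInducedBy_iff _ _ _).1 ht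
  obtain ⟨h, -, hh⟩ := (Cfsg.Agent.H802.mem_autInducedBy_iff _ _ _).1 hti'
  have hgr : g ∉ Q1 K := not_mem_of_not_inn hg hti
  have hni : γ * t * γ⁻¹ ∉ Inn (Q1 K) := fun hc => by
    apply hti
    obtain ⟨y, hy⟩ := hc
    refine ⟨γ⁻¹ y, ?_⟩
    have h1 : t = γ⁻¹ * (γ * t * γ⁻¹) * γ := by group
    rw [h1, ← hy]
    ext1 z
    rw [MulAut.mul_apply, MulAut.mul_apply, MulAut.conj_apply, MulAut.conj_apply, map_mul, map_mul,
      map_inv, MulAut.inv_apply_self]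
  have hhr : h ∉ Q1 K := not_mem_of_not_inn hh hni
  have gV : ∀ x : Q1 K, (x : UG K) ∈ ZS K ↔ ((γ x : Q1 K) : UG K) ∈ ZS K :=
    inv_of_comm le_rfl (fun x hx => ⟨fun hv y _ => Z_comm hv, fun hc => mem_Z_of_comm hK hc⟩) γ
      (fun x => ⟨fun _ => (γ x).2, fun _ => x.2⟩)
  have tr := fun e => transport hg hh gV e
  -- the centralizer of an outer element in `Q1/Z`
  have cA : ∀ g : UG K, g.u2 ≠ 0 → ∀ e : Q1 K, g * (e : UG K) * g⁻¹ * (e : UG K)⁻¹ ∈ ZS K ↔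
      (e : UG K) ∈ Z2 K := fun g hg e => by
    obtain ⟨h1, h2⟩ := e.2
    rw [commZ_iff, h1, h2]
    constructor
    · rintro ⟨e1, e2, -⟩
      have e3 : (e : UG K).r = 0 := by
        have : (e : UG K).r * g.u2 = 0 := by linear_combination -e1
        exact (mul_eq_zero.1 this).resolve_right hg
      have e4 : (e : UG K).u1 = 0 := by
        rw [e3, star_zero] at e2
        have : (e : UG K).u1 * star g.u2 = 0 := by linear_combination e2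
        exact (mul_eq_zero.1 this).resolve_right (star_ne_zero.2 hg)
      exact ⟨e3, e4, h1, h2⟩
    · rintro ⟨e1, e2, -, -⟩
      rw [e1, e2, star_zero]
      exact ⟨by ring, by ring, by ring⟩
  have cB : ∀ g : UG K, g.u2 = 0 → g.c ≠ 0 → ∀ e : Q1 K,
      g * (e : UG K) * g⁻¹ * (e : UG K)⁻¹ ∈ ZS K ↔ (e : UG K) ∈ Y1 K := fun g hg hgc e => by
    obtain ⟨h1, h2⟩ := e.2
    rw [commZ_iff, h1, h2, hg]
    constructor
    · rintro ⟨-, e2, -⟩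
      have e3 : (e : UG K).r = 0 := by
        have : (e : UG K).r * g.c = 0 := by rw [star_zero] at e2; linear_combination -e2
        exact (mul_eq_zero.1 this).resolve_right hgc
      exact mem_Y1.2 ⟨h1, h2, e3⟩
    · intro e1
      rw [(mem_Y1.1 e1).2.2, star_zero]
      exact ⟨by ring, by ring, by ring⟩
  obtain ⟨y1, hy1, y2, hy2, hne⟩ := Y1_nonabelian hK
  have goal1 : ∀ x : Q1 K, (x : UG K) ∈ Y1 K ↔ ((γ x : Q1 K) : UG K) ∈ Y1 K := by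
    have fromZ2 := fun (h : ∀ x : Q1 K, (x : UG K) ∈ Z2 K ↔ ((γ x : Q1 K) : UG K) ∈ Z2 K) =>
      inv_of_comm (A := Y1 K) (B := Z2 K) (Q := Q1 K) (Z2_le_Y1.trans Y1_le_Q1)
        (fun x hx => mem_Y1_iff hK hx) γ h
    by_cases hgu : g.u2 = 0
    · have hgc : g.c ≠ 0 := fun hc => hgr ⟨hgu, hc⟩
      by_cases hhu : h.u2 = 0
      · have hhc : h.c ≠ 0 := fun hc => hhr ⟨hhu, hc⟩
        intro e
        rw [← cB g hgu hgc e, ← cB h hhu hhc (γ e)]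
        exact tr e
      · exfalso
        have k : ∀ e : Q1 K, (e : UG K) ∈ Y1 K ↔ ((γ e : Q1 K) : UG K) ∈ Z2 K := fun e => by
          rw [← cB g hgu hgc e, ← cA h hhu (γ e)]
          exact tr e
        apply hne
        have k1 := (k ⟨y1, Y1_le_Q1 hy1⟩).1 hy1
        have k2 := (k ⟨y2, Y1_le_Q1 hy2⟩).1 hy2
        have k3 : γ (⟨y1, Y1_le_Q1 hy1⟩ * ⟨y2, Y1_le_Q1 hy2⟩) = γ (⟨y2, Y1_le_Q1 hy2⟩ * ⟨y1, Y1_le_Q1 hy1⟩) := by
          rw [map_mul, map_mul]; ext1; exact Z2_abelian k1 k2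
        exact congrArg Subtype.val (γ.injective k3)
    · by_cases hhu : h.u2 = 0
      · exfalso
        have hhc : h.c ≠ 0 := fun hc => hhr ⟨hhu, hc⟩
        have k : ∀ e : Q1 K, (e : UG K) ∈ Z2 K ↔ ((γ e : Q1 K) : UG K) ∈ Y1 K := fun e => by
          rw [← cA g hgu e, ← cB h hhu hhc (γ e)]
          exact tr e
        apply hne
        have a1 : γ (γ⁻¹ ⟨y1, Y1_le_Q1 hy1⟩) = ⟨y1, Y1_le_Q1 hy1⟩ := MulAut.apply_inv_self _ γ _
        have a2 : γ (γ⁻¹ ⟨y2, Y1_le_Q1 hy2⟩) = ⟨y2, Y1_le_Q1 hy2⟩ := MulAut.apply_inv_self _ γ _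
        have k1 := (k (γ⁻¹ ⟨y1, Y1_le_Q1 hy1⟩)).2 (by rw [a1]; exact hy1)
        have k2 := (k (γ⁻¹ ⟨y2, Y1_le_Q1 hy2⟩)).2 (by rw [a2]; exact hy2)
        have k3 : γ⁻¹ ⟨y1, Y1_le_Q1 hy1⟩ * γ⁻¹ ⟨y2, Y1_le_Q1 hy2⟩ =
            γ⁻¹ ⟨y2, Y1_le_Q1 hy2⟩ * γ⁻¹ ⟨y1, Y1_le_Q1 hy1⟩ := by
          ext1; exact Z2_abelian k1 k2
        have k4 := congrArg γ k3
        rw [map_mul, map_mul, a1, a2] at k4
        exact congrArg Subtype.val k4
      · exact fromZ2 (fun e => by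
          rw [← cA g hgu e, ← cA h hhu (γ e)]
          exact tr e)
  have goal2 : ∀ x : Q1 K, (x : UG K) ∈ Z2 K ↔ ((γ x : Q1 K) : UG K) ∈ Z2 K :=
    inv_of_comm (A := Z2 K) (B := Y1 K) (Q := Q1 K) Y1_le_Q1 (fun x hx => mem_Z2_iff hK hx) γ goal1
  refine ti_core (exp_UG hK) (V := ZS K) (M1 := Z2 K) (M2 := Y1 K) ZS_le_Z2 Z2_le_Y1 Y1_le_Q1
    (fun v hv x hx => Z_comm hv) ?_ (fun g x hx => inv_mul_mem n_Y1 (a_Q1 g hx))
    (fun g x hx => inv_mul_mem n_Z2 (a_Y1 g hx))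
    (fun g x hx => inv_mul_mem n_ZS (a_Z2 g hx)) hΓ hsyl hγ gV goal2 goal1
  intro β hβ v hv
  obtain ⟨x1, hx1, y1, hy1, he⟩ := Z_comm_form hK hv
  have hc : ∀ x y : Q1 K, (x⁻¹ * β x) * y = y * (x⁻¹ * β x) := fun x y => by
    ext1; exact Z_comm (hβ x)
  have he' : v = ⟨x1, Y1_le_Q1 hx1⟩ * ⟨y1, Y1_le_Q1 hy1⟩ * ⟨x1, Y1_le_Q1 hx1⟩⁻¹ * ⟨y1, Y1_le_Q1 hy1⟩⁻¹ := by
    ext1; exact he
  rw [he', fix_comm β hc]

/-! ### characteristic subgroups -/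

theorem mem_ZS_iff (hK : HypK K p n) {x : UG K} : x ∈ ZS K ↔ ∀ y, x * y = y * x :=
  ⟨fun hx y => Z_comm hx, fun h => mem_Z_of_comm hK (fun y _ => h y)⟩

theorem mem_Z2_iff' (hK : HypK K p n) {x : UG K} : x ∈ Z2 K ↔ ∀ g : UG K, g * x * g⁻¹ * x⁻¹ ∈ ZS K := by
  refine ⟨fun hx g => a_Z2 g hx, fun hx => ?_⟩
  obtain ⟨c, hc⟩ := exists_norm hK (1 : K)
  obtain ⟨e1, e2, -⟩ := commZ_iff.1 (hx (er 1))
  obtain ⟨f1, f2, -⟩ := commZ_iff.1 (hx (eu2 1 c hc))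
  simp only [er, eu2, star_one, star_zero] at e1 e2 f1 f2
  have r0 : x.r = 0 := by linear_combination -f1
  have u20 : x.u2 = 0 := by linear_combination e1
  rw [r0, u20, star_zero] at f2
  rw [r0, u20, star_zero] at e2
  exact ⟨r0, by linear_combination f2, u20, by linear_combination e2⟩

theorem char_of_iff {Q : Subgroup (UG K)} (h : ∀ α : MulAut (UG K), ∀ x, x ∈ Q → α x ∈ Q) (α : MulAut (UG K)) :
    Q.map α.toMonoidHom = Q := by
  apply le_antisymm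
  · rintro _ ⟨x, hx, rfl⟩
    exact h α x hx
  · intro x hx
    exact ⟨α⁻¹ x, h α⁻¹ x hx, MulAut.apply_inv_self _ α x⟩

theorem char_ZS (hK : HypK K p n) (α : MulAut (UG K)) {x : UG K} (hx : x ∈ ZS K) : α x ∈ ZS K := by
  rw [mem_ZS_iff hK] at hx ⊢
  intro y
  have h1 : α (α⁻¹ y) = y := MulAut.apply_inv_self _ α y
  rw [← h1, ← map_mul, hx, map_mul]

theorem char_Z2 (hK : HypK K p n) (α : MulAut (UG K)) {x : UG K} (hx : x ∈ Z2 K) : α x ∈ Z2 K := by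
  rw [mem_Z2_iff' hK] at hx ⊢
  intro y
  have h1 : α (α⁻¹ y) = y := MulAut.apply_inv_self _ α y
  have := char_ZS hK α (hx (α⁻¹ y))
  rwa [map_mul, map_mul, map_mul, map_inv, map_inv, h1] at this

theorem char_Q2 (hK : HypK K p n) (α : MulAut (UG K)) {x : UG K} (hx : x ∈ Q2 K) : α x ∈ Q2 K := by
  rw [mem_Q2_iff (exists_star_ne hK)] at hx ⊢
  intro y hy
  have h1 : α (α⁻¹ y) = y := MulAut.apply_inv_self _ α y
  rw [← h1, ← map_mul, hx _ (char_Z2 hK α⁻¹ hy), map_mul]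

theorem char_Q1 (hK : HypK K p n) (α : MulAut (UG K)) {x : UG K} (hx : x ∈ Q1 K) : α x ∈ Q1 K := by
  -- the image of `Q1` covers `S/Q2`
  have cov : ∀ ρ : K, ∃ w ∈ Q1 K, (α w).r = ρ := fun ρ => by
    set s : UG K := α⁻¹ (er ρ) with hs
    have h1 : α s = er ρ := MulAut.apply_inv_self _ α _
    refine ⟨er s.r, ⟨rfl, rfl⟩, ?_⟩
    have h2 : s * (er s.r)⁻¹ ∈ Q2 K := by
      change (s * (er s.r)⁻¹).r = 0
      rw [UG.mul_r, UG.inv_r]; simp [er]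
    have h3 : (α (s * (er s.r)⁻¹)).r = 0 := char_Q2 hK α h2
    rw [map_mul, map_inv, h1, UG.mul_r, UG.inv_r] at h3
    have : (er ρ : UG K).r = ρ := rfl
    rw [this] at h3
    linear_combination -h3
  have comm : ∀ v ∈ Q1 K, ∀ w ∈ Q1 K, α v * α w * (α v)⁻¹ * (α w)⁻¹ ∈ ZS K := fun v hv w hw => by
    have : v * w * v⁻¹ * w⁻¹ ∈ ZS K := by
      rw [commZ_iff, hv.1, hv.2, hw.1, hw.2]; simp
    have := char_ZS hK α this
    rwa [map_mul, map_mul, map_mul, map_inv, map_inv] at this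
  obtain ⟨b, hb⟩ := exists_star_ne hK
  obtain ⟨w1, hw1, r1⟩ := cov 1
  obtain ⟨wb, hwb, rb⟩ := cov b
  set σ := (α w1).u2 with hσ
  have k1 : ∀ v ∈ Q1 K, (α v).u2 = (α v).r * σ := fun v hv => by
    have := (commZ_iff.1 (comm v hv w1 hw1)).1
    rw [r1] at this
    linear_combination -this
  have hσ0 : σ = 0 := by
    by_contra hne
    have := (commZ_iff.1 (comm wb hwb w1 hw1)).2.2
    rw [k1 wb hwb, rb, ← hσ, star_mul'] at this
    have h2 : (b - star b) * (σ * star σ) = 0 := by linear_combination this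
    rcases mul_eq_zero.1 h2 with h3 | h3
    · exact hb (sub_eq_zero.1 h3).symm
    · rcases mul_eq_zero.1 h3 with h4 | h4
      · exact hne h4
      · exact hne (star_eq_zero.1 h4)
  have k2 : ∀ v ∈ Q1 K, (α v).u2 = 0 := fun v hv => by rw [k1 v hv, hσ0, mul_zero]
  set c1 := (α w1).c with hc1
  have k3 : ∀ v ∈ Q1 K, (α v).c = (α v).r * c1 := fun v hv => by
    have := (commZ_iff.1 (comm v hv w1 hw1)).2.1
    rw [r1, k2 v hv, k2 w1 hw1, star_zero, ← hc1] at this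
    linear_combination -this
  have htr : ∀ v ∈ Q1 K, (α v).c + star (α v).c = 0 := fun v hv => by
    have := (α v).hc
    rw [k2 v hv] at this
    linear_combination this
  have hc0 : c1 = 0 := by
    have h1 := htr w1 hw1
    have h2 := htr wb hwb
    rw [k3 wb hwb, rb, star_mul'] at h2
    rw [← hc1] at h1
    have h3 : (b - star b) * c1 = 0 := by linear_combination h2 - star b * h1
    exact (mul_eq_zero.1 h3).resolve_left (fun h => hb (sub_eq_zero.1 h).symm)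
  exact ⟨k2 x hx, by rw [k3 x hx, hc0, mul_zero]⟩

/-! ### the statement -/

theorem stTI : StTI.{u} := by
  intro K _ _ p n hK Q hQ
  rcases hQ with rfl | rfl
  · refine ⟨fun Γ hΓ hsyl => ti1 hK hΓ hsyl, ?_, ?_, char_of_iff (fun α x hx => char_Q1 hK α hx)⟩
    · rintro x ⟨-, hx'⟩
      have hx : ∀ y ∈ _, y * x = x * y := Subgroup.mem_centralizer_iff.1 hx'
      exact Y1_le_Q1 (Z2_le_Y1 (ZS_le_Z2 (mem_Z_of_comm hK (fun y hy => (hx y hy).symm))))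
    · intro htop
      obtain ⟨c, hc⟩ := exists_norm hK (1 : K)
      have : eu2 1 c hc ∈ Q1 K := by rw [htop]; trivial
      exact one_ne_zero (α := K) this.1
  · refine ⟨fun Γ hΓ hsyl => ti2 hK hΓ hsyl, ?_, ?_, char_of_iff (fun α x hx => char_Q2 hK α hx)⟩
    · rintro x ⟨-, hx'⟩
      have hx : ∀ y ∈ _, y * x = x * y := Subgroup.mem_centralizer_iff.1 hx'
      rw [mem_Q2_iff (exists_star_ne hK)]
      exact fun z hz => (hx z hz.1).symm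
    · intro htop
      have : er (1 : K) ∈ Q2 K := by rw [htop]; trivial
      exact one_ne_zero (α := K) this

end

end Cfsg.Agent.H294.PU
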